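import Cfsg.Agent.H832.K547.Split
import Cfsg.Agent.H300.K4.JTwo
import Cfsg.Agent.S2066

/-!
# S4547, the row `J2` (helper832)

* `d3_of_model`, `d3_J2` : the Sylow 2-subgroup `2^{1+4}_- : 2^2` of the centraliser of a 2-central involution (signed
  permutation model of `KFacts/J2`): the two homomorphisms of the four-group of `A_5` and the sign of the fixed letter.
* the odd involution `pT` of the 100 points permutes the 840 subsets (table `qT`), so the characters `63`, `175` are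
  invariant under it; it is not inner. Hence `row` by `row_of_involution`.
-/

set_option autoImplicit false
set_option maxRecDepth 100000

namespace Cfsg.Agent.H832.K547

open Cfsg Cfsg.Agent.H821.K547 Cfsg.Agent.H601.K4

universe u v

/-! ### the four-group of `A₅` -/

open Equiv

/-- `(0 1)(2 3)` -/
def va : Perm (Fin 5) := swap 0 1 * swap 2 3
/-- `(0 2)(1 3)` -/
def vb : Perm (Fin 5) := swap 0 2 * swap 1 3
/-- `(0 3)(1 2)` -/
def vc : Perm (Fin 5) := swap 0 3 * swap 1 2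

/-- the elements of the four-group -/
def v4 (a b : ZMod 2) : Perm (Fin 5) := (if a = 0 then 1 else va) * (if b = 0 then 1 else vb)

theorem v4_mul : ∀ a b c d : ZMod 2, v4 a b * v4 c d = v4 (a + c) (b + d) := by decide

theorem v4_inj : ∀ a b c d : ZMod 2, v4 a b = v4 c d → a = c ∧ b = d := by decide

theorem v4_four : ∀ a b : ZMod 2, v4 a b 4 = 4 := by decide

theorem v4_sign : ∀ a b : ZMod 2, Perm.sign (v4 a b) = 1 := by decide

/-- the four-group -/
def V4 : Subgroup (Perm (Fin 5)) where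
  carrier := {σ | ∃ a b, v4 a b = σ}
  mul_mem' := by
    rintro _ _ ⟨a, b, rfl⟩ ⟨c, d, rfl⟩
    exact ⟨_, _, (v4_mul a b c d).symm⟩
  one_mem' := ⟨0, 0, by decide⟩
  inv_mem' := by
    rintro _ ⟨a, b, rfl⟩
    refine ⟨a, b, ?_⟩
    revert a b
    decide

theorem card_V4 : Nat.card V4 = 4 := by
  have e : (ZMod 2 × ZMod 2) ≃ V4 := Equiv.ofBijective (fun p => ⟨v4 p.1 p.2, p.1, p.2, rfl⟩) (by
    constructor
    · rintro ⟨a, b⟩ ⟨c, d⟩ h
      obtain ⟨h1, h2⟩ := v4_inj a b c d (congrArg Subtype.val h)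
      rw [h1, h2]
    · rintro ⟨_, a, b, rfl⟩
      exact ⟨(a, b), rfl⟩)
  rw [← Nat.card_congr e, Nat.card_prod, Nat.card_zmod]


open Cfsg.Agent.J2Type.Model

section model

variable {C : Type u} [Group C] {Q : Subgroup C} {z : C} {v : Fin 5 → C} {ρ : C →* SP}

/-- the permutation of the five letters -/
def sg (ρ : C →* SP) : C →* Perm (Fin 5) where
  toFun c := (ρ c).σ
  map_one' := by rw [map_one]; rfl
  map_mul' a b := by rw [map_mul]; rfl

theorem sg_range (M : IsModel Q z v ρ) : (sg ρ).range = alternatingGroup (Fin 5) := by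
  ext σ
  rw [MonoidHom.mem_range, Equiv.Perm.mem_alternatingGroup]
  constructor
  · rintro ⟨c, rfl⟩
    exact ((M.range (ρ c)).1 ⟨c, rfl⟩).1
  · intro h
    obtain ⟨c, hc⟩ := (M.range ⟨σ, fun _ => 0⟩).2 ⟨h, by simp⟩
    exact ⟨c, congrArg SP.σ hc⟩

theorem V4_le : V4 ≤ alternatingGroup (Fin 5) := by
  rintro _ ⟨a, b, rfl⟩
  exact Equiv.Perm.mem_alternatingGroup.2 (v4_sign a b)

/-- the Sylow 2-subgroup -/
def PC (ρ : C →* SP) : Subgroup C := V4.comap (sg ρ)

theorem index_PC (M : IsModel Q z v ρ) : (PC ρ).index = 15 := by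
  unfold PC
  rw [Subgroup.index_comap, sg_range M]
  have h1 := Subgroup.relIndex_mul_relIndex (⊥ : Subgroup (Perm (Fin 5))) V4 (alternatingGroup (Fin 5)) bot_le V4_le
  rw [Subgroup.relIndex_bot_left, Subgroup.relIndex_bot_left, card_V4] at h1
  have h2 : 2 * Nat.card (alternatingGroup (Fin 5)) = 120 := by
    rw [Nat.card_eq_fintype_card, two_mul_card_alternatingGroup, Fintype.card_perm, Fintype.card_fin]
    rfl
  omega

theorem v4_s (g h : SP) (hh : h.σ ∈ V4) : (g * h).s 4 = g.s 4 + h.s 4 := by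
  obtain ⟨a, b, hab⟩ := hh
  rw [mul_s, ← hab, v4_four, add_comm]

/-- `α` on the four-group -/
def al (σ : Perm (Fin 5)) : ZMod 2 := if σ 0 = 1 ∨ σ 0 = 3 then 1 else 0
/-- `β` on the four-group -/
def be (σ : Perm (Fin 5)) : ZMod 2 := if σ 0 = 2 ∨ σ 0 = 3 then 1 else 0

theorem al_v4 : ∀ a b : ZMod 2, al (v4 a b) = a := by decide
theorem be_v4 : ∀ a b : ZMod 2, be (v4 a b) = b := by decide

/-- the homomorphism onto `C_2 ^ 3` -/
def f3 (ρ : C →* SP) : PC ρ →* Multiplicative (Fin 3 → ZMod 2) where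
  toFun c := Multiplicative.ofAdd ![al (ρ c).σ, be (ρ c).σ, (ρ c).s 4]
  map_one' := by
    have h : ρ ((1 : PC ρ) : C) = 1 := map_one ρ
    rw [h, one_σ, one_s]
    have e1 : al 1 = 0 := al_v4 0 0
    have e2 : be 1 = 0 := be_v4 0 0
    rw [e1, e2]
    apply Multiplicative.toAdd.injective
    funext i
    fin_cases i <;> rfl
  map_mul' := by
    rintro ⟨c, a, b, hab⟩ ⟨d, a', b', hab'⟩
    have h : ρ (((⟨c, a, b, hab⟩ : PC ρ) * ⟨d, a', b', hab'⟩ : PC ρ) : C) = ρ c * ρ d := map_mul ρ c d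
    have hc : (ρ c).σ = v4 a b := hab.symm
    have hd : (ρ d).σ = v4 a' b' := hab'.symm
    rw [h, mul_σ, v4_s _ _ ⟨a', b', hab'⟩, hc, hd, v4_mul, al_v4, be_v4]
    show Multiplicative.ofAdd _ = Multiplicative.ofAdd ![al (v4 a b), be (v4 a b), (ρ c).s 4] *
      Multiplicative.ofAdd ![al (v4 a' b'), be (v4 a' b'), (ρ d).s 4]
    rw [al_v4, be_v4, al_v4, be_v4, ← ofAdd_add]
    congr 1
    funext i
    fin_cases i <;> rfl

theorem f3_surj (M : IsModel Q z v ρ) : Function.Surjective (f3 ρ) := by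
  intro y
  set w : Fin 3 → ZMod 2 := Multiplicative.toAdd y with hw
  obtain ⟨c, hc⟩ := (M.range ⟨v4 (w 0) (w 1), fun i => if i = 4 ∨ i = 0 then w 2 else 0⟩).2 ⟨v4_sign _ _, by
    rw [Fin.sum_univ_five]
    simp
    exact CharTwo.add_self_eq_zero _⟩
  have hcσ : (ρ c).σ = v4 (w 0) (w 1) := congrArg SP.σ hc
  have hcs : (ρ c).s 4 = w 2 := by
    rw [hc]
    simp
  refine ⟨⟨c, w 0, w 1, hcσ.symm⟩, ?_⟩
  show Multiplicative.ofAdd ![al (ρ c).σ, be (ρ c).σ, (ρ c).s 4] = y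
  rw [hcσ, al_v4, be_v4, hcs]
  apply Multiplicative.toAdd.injective
  funext i
  fin_cases i <;> rfl

end model

/-- `D3` from the signed permutation model of the centraliser of an involution. -/
theorem d3_of_model {X : Type u} [Group X] [Finite X] {C : Subgroup X} {Q : Subgroup C} {z : C} {v : Fin 5 → C} {ρ : C →* SP}
    (M : IsModel Q z v ρ) (hC : Nat.card C = 1920) (hX : ¬ 2 ^ 8 ∣ Nat.card X) : D3 X := by
  have h1 := (PC ρ).card_mul_index
  rw [index_PC M, hC] at h1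
  have h2 : Nat.card (PC ρ) = 128 := by omega
  let e : PC ρ ≃* (PC ρ).map C.subtype := (PC ρ).equivMapOfInjective C.subtype C.subtype_injective
  refine d3_of_sub ((PC ρ).map C.subtype) (k := 7) ?_ hX ((f3 ρ).comp e.symm.toMonoidHom)
    ((f3_surj M).comp e.symm.surjective)
  rw [← Nat.card_congr e.toEquiv, h2]
  norm_num

end Cfsg.Agent.H832.K547

namespace Cfsg.Agent.H832.K547.JTwo

open Cfsg Cfsg.Agent.H821.K547 Cfsg.Agent.H601.K4 Equiv
open Cfsg.Agent.SporadicA.PermTab Cfsg.Agent.SporadicA.J2Data Cfsg.Agent.SporadicA.J2Hundred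
open Cfsg.Agent.H300.K4.JTwoData Cfsg.Agent.H300.K4.JTwoDeg Cfsg.Agent.H678.DG.Blk

universe u

/-- the action of the odd involution `pT` on the 840 subsets -/
def qT : ℕ := 0x41e80d06a013ea7ccfd1f23d2a59672905da9ad7da0b3fe7f51a2dd3f6935801f045a8211f2183da94d8524943ea297c2205408c13e1e03dc788f3a3854c824f89f84a2c1d21aae3ecae12f2d23d6a4d23a1e3ccca53a9e362c96d332db3f2af8f43314fe8d9549ea672aacf2b25550819309fe512b1125a695807b19da7e4d8a3d4aa635b0829612604c4a2d2324c4e07bd9a28260886d422e7432a0532a6d530c410125d3eecf5512505668ed5826e538a495d2f244eb954caef44ac092c2864e2b15073124d49bd4da74596a752b2c9534c510b2775f481d7eaf740ac6d3ca9e4e4b34fa3234b4a91592c756aabd60ad3518cf974a2261cb190a33c5d489142a975c4c9979a2c4f6af146ad9426b716b2115febb10032150e87152a2f5587f184ab4466a8d5dadf56cb216a2eb674add7822b3c2c156a9e45d0b8d7aae442ac456820c60ca7d142bd478ac51920465485d8bacc484875992e05e28a99423d61ab851fa1262a93d1723a48acb5242575949010831c446bf90d3354e695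514b224f090597a884d092918a595868855fa8e46ea511332464ec312727a5b48d56bb2c4a4ab52fa915069114023968eae5a2a5c670b998d32e554bd953a5468cb45a227d66ebd19b276666d0581b1859ec4da1aa1684d018cb305bcc7d95aee61ebf19fb0163ac2d7ca64610c7933b2026a4fcd81992826ac9e12e38c550d69d42e456cbc1302a2738e69bb2f44b4e492c27675cd712f32e4c8b395c26263ca197c3986a89b93a2aa4f49c18728a5249a1dd358714ea9af3b46e89b18e2f65acb41692844cca6159294518b995827c558ee160386500ae95229a540bc96d37c6a0a71572906149c988368510c51622be52cba9652c6598b89bc34e72cc89d128e5d8c096e33a74cbe9532c85d0c814f34c578d21a53825f8c016f2fe610ad1983065a8ca9c03a4584d019c318668db9d62e0650e79922d8634c99a130467cd918b2ee678d998637a68ced9963bc66cdb1d938e6e0c49b53726a4ef9b1344708df9d0388760e51c81124404c91e1484702103f0882889012116e4a0531261842684504b07c1948a8a30784487e92a1861d42f0fa0803d0388771be0f45288e2061e8808620a23f88884f1f6430460e608a3887810a0e41d03e0f50dc2004b088160190380a91203e0648c50983d87087d20e2f8218dc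11a368268ae1822546a84a0f61645905719e21c588411881207284918e118720cb21e46c6b89408e3782d0500d21543185623e1483086b0a8344668eb0a63602c0810de1a87406d106474829272284883305d0b819c4884e0f04689485f1163b46b0c00d01f84e8e71084106d8f912e464958ec19c16c3c88f14e180560ee0e6248700f11a64084289b2101b0870f20fe3cc848e91563bc540761682a85d89313c2848b0ea1724005a8821304345009f10c2f4690ad1a02e05d0b315e2d87f8bc1f82706c8e3230350640ca17e3187b9231ba4946610b24845c8311304a0d01882405e0c81683a0600d81c83306e0981a82a0500b01382b0520b81d83802a0881081802c05c0d0190360740e02003c07c1180a00404006812010014088010160500480f00e0180700400604c06000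

theorem cT : chkPQ 100 840 mk (tT, qT) = true := by decide +kernel

/-- the odd involution in the full symmetric group -/
noncomputable def pt : (⊤ : Subgroup (Perm (Fin 100))) := ⟨pT, trivial⟩

theorem pt_F (x : ℕ) (hx : x < 840) : lk qT x < 840 ∧ pt • Fm 100 mk x = Fm 100 mk (lk qT x) :=
  cor_of_chkPQ cT pt (fun i => mkPerm_val tT tT iT i) x hx

theorem F_inj : ∀ x < 840, ∀ y < 840, Fm 100 mk x = Fm 100 mk y → x = y := fun x hx y hy h =>
  inj_of_chk (N := 100) c2 x hx y hy h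

/-- the permutation of the indices -/
noncomputable def qp : Fin 840 ≃ Fin 840 :=
  Equiv.ofBijective (fun i => ⟨lk qT i, (pt_F i i.2).1⟩) (Finite.injective_iff_bijective.1 (by
    intro i j h
    have h1 : lk qT i = lk qT j := congrArg Fin.val h
    have h2 : pt • Fm 100 mk i = pt • Fm 100 mk j := by rw [(pt_F i i.2).2, (pt_F j j.2).2, h1]
    exact Fin.ext (F_inj i i.2 j j.2 (smul_left_cancel _ h2))))

theorem qp_F (i : Fin 840) : Fm 100 mk (qp i) = pt • Fm 100 mk i := ((pt_F i i.2).2).symm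

/-- The sum is invariant under `pT`. -/
theorem sum_inv (om : ℕ → ℚ) (g h : G) (hgh : (h : Perm (Fin 100)) = pT * g * pT⁻¹) :
    ∑ i : Fin 840, om (isz (Fm 100 mk i) (h⁻¹ • Fm 100 mk i)) =
      ∑ i : Fin 840, om (isz (Fm 100 mk i) (g⁻¹ • Fm 100 mk i)) := by
  rw [← Equiv.sum_comp qp]
  refine Finset.sum_congr rfl fun i _ => ?_
  rw [qp_F]
  have h1 : h⁻¹ • (pt • Fm 100 mk i) = pt • (g⁻¹ • Fm 100 mk i) := by
    funext j
    show Fm 100 mk i ((pT : Perm (Fin 100))⁻¹ (((h⁻¹ : G) : Perm (Fin 100))⁻¹ j)) =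
      Fm 100 mk i (((g⁻¹ : G) : Perm (Fin 100))⁻¹ ((pT : Perm (Fin 100))⁻¹ j))
    rw [Subgroup.coe_inv, Subgroup.coe_inv, inv_inv, inv_inv, hgh]
    simp [Perm.mul_apply]
  rw [h1, isz_smul]

/-! ### the outer automorphism -/

theorem mem_G_iff (g : Perm (Fin 100)) : g ∈ G ↔ g ∈ autG 100 adj ∧ Perm.sign g = 1 := by
  have hle : G ≤ autG 100 adj ⊓ (Perm.sign : Perm (Fin 100) →* ℤˣ).ker := le_inf aut_le fun x hx => sign_G x hx
  have h1 := two_mul_card_le (G := autG 100 adj ⊓ (Perm.sign : Perm (Fin 100) →* ℤˣ).ker) inf_le_left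
    (fun x hx => hx.2) pT_mem sign_T
  have h2 := card_aut_le
  have h3 := card_G
  have heq := Subgroup.eq_of_le_of_card_ge hle (by omega)
  constructor
  · intro h
    exact hle h
  · intro h
    rw [heq]
    exact h

theorem conj_mem {x : Perm (Fin 100)} (hx : x ∈ G) : pT * x * pT⁻¹ ∈ G := by
  obtain ⟨h1, h2⟩ := (mem_G_iff x).1 hx
  refine (mem_G_iff _).2 ⟨(autG 100 adj).mul_mem ((autG 100 adj).mul_mem pT_mem h1) ((autG 100 adj).inv_mem pT_mem), ?_⟩
  rw [Perm.sign_mul, Perm.sign_mul, Perm.sign_inv, h2, sign_T]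
  decide

theorem pT_sq : pT * pT = 1 := by
  ext i
  exact (chkInv_spec iT i).2.2.1

theorem pT_inv : pT⁻¹ = pT := inv_eq_of_mul_eq_one_right pT_sq

/-- conjugation by `pT` -/
noncomputable def τ₀ : MulAut G where
  toFun x := ⟨pT * x * pT⁻¹, conj_mem x.2⟩
  invFun x := ⟨pT * x * pT⁻¹, conj_mem x.2⟩
  left_inv x := by
    apply Subtype.ext
    show pT * (pT * (x : Perm (Fin 100)) * pT⁻¹) * pT⁻¹ = x
    rw [pT_inv]
    calc pT * (pT * (x : Perm (Fin 100)) * pT) * pT = (pT * pT) * x * (pT * pT) := by group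
      _ = x := by rw [pT_sq, one_mul, mul_one]
  right_inv x := by
    apply Subtype.ext
    show pT * (pT * (x : Perm (Fin 100)) * pT⁻¹) * pT⁻¹ = x
    rw [pT_inv]
    calc pT * (pT * (x : Perm (Fin 100)) * pT) * pT = (pT * pT) * x * (pT * pT) := by group
      _ = x := by rw [pT_sq, one_mul, mul_one]
  map_mul' x y := by
    apply Subtype.ext
    show pT * ((x : Perm (Fin 100)) * y) * pT⁻¹ = pT * (x : Perm (Fin 100)) * pT⁻¹ * (pT * (y : Perm (Fin 100)) * pT⁻¹)
    group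

theorem τ₀_coe (x : G) : ((τ₀ x : G) : Perm (Fin 100)) = pT * x * pT⁻¹ := rfl

theorem fix_zero : allB (fun v => bor (Nat.beq v 0) (bor (nbeq (lk u0 v) v) (nbeq (lk u1 v) v))) 100 = true := by
  decide +kernel

theorem not_inn : ¬ IsInn τ₀ := by
  rintro ⟨s, hs⟩
  set c : Perm (Fin 100) := (s : Perm (Fin 100))⁻¹ * pT with hc
  have hcomm : ∀ x ∈ G, c * x = x * c := by
    intro x hx
    have h1 : pT * x * pT⁻¹ = s * x * (s : Perm (Fin 100))⁻¹ := congrArg Subtype.val (hs ⟨x, hx⟩)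
    calc c * x = (s : Perm (Fin 100))⁻¹ * (pT * x * pT⁻¹) * pT := by rw [hc]; group
      _ = (s : Perm (Fin 100))⁻¹ * (s * x * (s : Perm (Fin 100))⁻¹) * pT := by rw [h1]
      _ = x * c := by rw [hc]; group
  have hfix : ∀ {P : ℕ}, InG (ps G x0) P → lk P (c x0 : Fin 100) = (c x0 : Fin 100) := by
    rintro P ⟨x, hx, hP⟩
    have hxG : x ∈ G := hx.1
    have hx0 : x x0 = x0 := hx.2
    have h2 := congrArg (fun f : Perm (Fin 100) => f x0) (hcomm x hxG)
    have h3 : c (x x0) = x (c x0) := h2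
    rw [hx0] at h3
    rw [← hP, ← h3]
  have hc0 : c x0 = x0 := by
    have h := (allB_iff _ _).1 fix_zero (c x0) (c x0).2
    rw [bor_iff, bor_iff] at h
    rcases h with h | h | h
    · exact Fin.ext (Nat.eq_of_beq_eq_true h)
    · exact absurd (hfix psu0) ((nbeq_iff _ _).1 h)
    · exact absurd (hfix psu1) ((nbeq_iff _ _).1 h)
  have hc1 : c = 1 := by
    ext v
    obtain ⟨g, hg, rfl⟩ := trans v
    have h2 : c (g x0) = g (c x0) := congrArg (fun f : Perm (Fin 100) => f x0) (hcomm g hg)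
    rw [h2, hc0]
    rfl
  have h4 : pT = s := by
    have h5 : (s : Perm (Fin 100)) * c = pT := by rw [hc]; group
    rw [← h5, hc1, mul_one]
  have h6 := sign_T
  rw [h4, sign_G s s.2] at h6
  revert h6
  decide

/-! ### invariant characters -/

theorem exists_inv (a : Fin 7 → ℚ) (t : ℚ) (L : Fin 7 → Fin 7 → ℚ) (d : ℕ)
    (ha : a 0 = 1) (hBa : ∀ i : Fin 7, ∑ j : Fin 7, (B i j : ℚ) * a j = t * a i)
    (hL : ∀ i j : Fin 7, ∑ l : Fin 7, L i l * ((B l j : ℚ) - if l = j then t else 0) =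
      (if i = j then 1 else 0) - if j = 0 then a i else 0)
    (hd : (d : ℚ) * ∑ j : Fin 7, (kk j : ℚ) * (a j * a j) = (840 : ℕ)) (hodd : Odd d) :
    ∃ χ : G → ℂ, Good χ ∧ χ 1 = d ∧ ∀ g : G, χ (τ₀ g) = χ g := by
  obtain ⟨χ, h1, h2, h3⟩ := char a t L d ha hBa hL hd
  refine ⟨χ, H740.K4.good_of_rat h1 (fun g => ⟨_, h3 g⟩) ?_, h2, fun g => ?_⟩
  · rwa [Cfsg.Agent.Blocks.Basic.charDegree_of_eq h2]
  · rw [h3, h3, sum_inv (om a) g (τ₀ g) (τ₀_coe g)]

theorem exists_63' : ∃ χ : G → ℂ, Good χ ∧ χ 1 = (63 : ℕ) ∧ ∀ g : G, χ (τ₀ g) = χ g :=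
  exists_inv a63 5 ![![0, 0, 0, 0, 0, 0, 0], ![-3/40, 1/2, -7/8, 0, 2, -3/2, 0], ![1/15, 0, 0, 0, 0, 0, 0],
    ![1/80, -1/4, 5/16, -1/5, -1/2, 3/4, 0], ![-1/80, 1/6, -7/48, 0, 1/3, -1/4, 0], ![1/60, 0, 1/12, 0, 0, 0, 0],
    ![1/240, -1/12, 5/48, 0, -1/6, 1/4, 0]] 63 (by decide +kernel) (by decide +kernel) (by decide +kernel)
    (by decide +kernel) (by decide)

theorem exists_175' : ∃ χ : G → ℂ, Good χ ∧ χ 1 = (175 : ℕ) ∧ ∀ g : G, χ (τ₀ g) = χ g :=
  exists_inv ![1, 1/10, -1/5, -1/4, -1/20, 0, 1/20] (-3) ![![0, 0, 0, 0, 0, 0, 0],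
    ![-7/360, 5/18, -1/24, 0, -2/3, 1/2, 0], ![1/15, 0, 0, 0, 0, 0, 0], ![-1/48, -5/36, 5/16, 1/3, 5/6, -5/4, 0],
    ![7/720, -1/18, 1/48, 0, 1/3, -1/4, 0], ![-1/36, 0, 1/12, 0, 0, 0, 0], ![1/240, 1/36, -1/16, 0, -1/6, 1/4, 0]] 175
    (by decide +kernel) (by decide +kernel) (by decide +kernel) (by decide +kernel) (by decide)

theorem ginv3 {τ : MulAut G} {s : G} (hs : ∀ x, τ x = s * τ₀ x * s⁻¹) : GInv3 τ := by
  obtain ⟨a, ha, ha1, ha2⟩ := exists_63'
  obtain ⟨b, hb, hb1, hb2⟩ := exists_175'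
  have key : ∀ {χ : G → ℂ}, Good χ → (∀ g, χ (τ₀ g) = χ g) → ∀ x, χ (τ x) = χ x := by
    intro χ h1 h2 x
    rw [hs, ← h2 x]
    exact Cfsg.Agent.Characters.Core.isIrr_isClassFunction h1.odd.1 _ _
  refine ⟨![fun _ => 1, a, b], ?_, ?_⟩
  · have hdeg : ∀ i : Fin 3, (![fun _ => 1, a, b] : Fin 3 → G → ℂ) i 1 = ((![1, 63, 175] : Fin 3 → ℕ) i : ℂ) := by
      intro i
      fin_cases i
      · simp
      · exact ha1
      · exact hb1
    intro i j hij
    have h1 : ((![1, 63, 175] : Fin 3 → ℕ) i : ℂ) = ((![1, 63, 175] : Fin 3 → ℕ) j : ℂ) := by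
      rw [← hdeg, ← hdeg, hij]
    have h2 : (![1, 63, 175] : Fin 3 → ℕ) i = (![1, 63, 175] : Fin 3 → ℕ) j := by exact_mod_cast h1
    revert h2
    fin_cases i <;> fin_cases j <;> simp
  · intro i
    fin_cases i
    · exact ⟨H740.K4.good_one', fun _ => rfl⟩
    · exact ⟨ha, key ha ha2⟩
    · exact ⟨hb, key hb hb2⟩

theorem τ₀_sq : τ₀ * τ₀ = 1 := by
  apply MulEquiv.ext
  intro x
  exact τ₀.left_inv x

theorem ginv3_τ₀ : GInv3 τ₀ := ginv3 (s := 1) fun x => by rw [one_mul, inv_one, mul_one]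

theorem d3_J2 : D3 Cfsg.Spor.J2 := by
  obtain ⟨t, u, Q, v, ρ, D⟩ := Cfsg.Agent.KFacts.J2.Basic.exists_dat
  have hc : Nat.card Cfsg.Spor.J2 = 604800 := Cfsg.Agent.H300.K4.JTwo.card_J2
  have hfin : Finite Cfsg.Spor.J2 := Nat.finite_of_card_ne_zero (by rw [hc]; norm_num)
  exact d3_of_model D.M D.F.cardC (by rw [hc]; norm_num)

/-- **The row `J2` of S4547.** -/
theorem row {S : Type u} [Group S] (h : Spor.IsoJ2 S) : Row S := by
  have hc : Nat.card Cfsg.Spor.J2 = 604800 := Cfsg.Agent.H300.K4.JTwo.card_J2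
  have hfinJ : Finite Cfsg.Spor.J2 := Nat.finite_of_card_ne_zero (by rw [hc]; norm_num)
  obtain ⟨f⟩ := J2.HundredGens.J2_iso hc
  obtain ⟨e⟩ := id h
  have hfin : Finite S := Finite.of_equiv _ (e.trans f).symm.toEquiv
  have hO : Nat.card (Cfsg.Out S) = 2 := by
    rw [H55.OutGen.card_out_congr e]
    exact S2066.result
  have hsG : IsSimpleGroup G := simple
  have hnaG : ¬ IsMulCommutative G := by
    intro hcomm
    let _ : CommGroup G := { (inferInstance : Group G) with mul_comm := hcomm.is_comm.comm }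
    have h1 : (Nat.card G).Prime := IsSimpleGroup.prime_card (α := G)
    rw [card_G] at h1
    revert h1
    norm_num
  have hZ : Subgroup.center S = ⊥ := by
    have hs : IsSimpleGroup S := (e.trans f).isSimpleGroup
    rcases (inferInstance : (Subgroup.center S).Normal).eq_bot_or_eq_top with h1 | h1
    · exact h1
    · exfalso
      apply hnaG
      refine ⟨⟨fun x y => ?_⟩⟩
      have h2 : (e.trans f).symm x ∈ Subgroup.center S := by rw [h1]; trivial
      have h3 := (Subgroup.mem_center_iff.1 h2) ((e.trans f).symm y)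
      apply (e.trans f).symm.injective
      rw [map_mul, map_mul]
      exact h3.symm
  refine row_of_involution hZ (H300.K4.JTwo.good5 h) (d3_of_equiv e d3_J2) hO (tr (e.trans f) τ₀) ?_ ?_
    (ginv3_tr (e.trans f) ginv3_τ₀)
  · rw [tr_mul, τ₀_sq, tr_one]
  · exact fun h1 => not_inn (isInn_tr _ h1)

end Cfsg.Agent.H832.K547.JTwo
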