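import Cfsg.Agent.H821.K547.Defs
import Cfsg.Agent.H740.K4.Equiv
import Cfsg.Agent.H55.OutGen

/-!
# S4547: rows of simple groups with a split outer automorphism of order 2 (helper832)

* `d3_of_sub` : `D3 G` from an explicit Sylow 2-subgroup and a homomorphism onto `C_2 ^ 3`; `d3_of_equiv`.
* `rk_split`, `d3_split` : a subgroup of index 2 with `Rk 3` (`D3`) and an involution outside give `Rk 3` (`D3`).
* `row_of_involution` : **`|Out S| = 2`, `Good5 S`, `D3 S` and a non-inner automorphism `c` with `c * c = 1`, `GInv3 c`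
  give `Row S`** (no transfer argument is needed in the split case).
-/

set_option autoImplicit false

namespace Cfsg.Agent.H832.K547

open Cfsg Cfsg.Agent.H821.K547

universe u v

/-! ### `D3` from an explicit Sylow 2-subgroup -/

theorem d3_of_sub {X : Type u} [Group X] [Finite X] (P : Subgroup X) {k : ℕ} (hP : Nat.card P = 2 ^ k)
    (hX : ¬ 2 ^ (k + 1) ∣ Nat.card X) (f : P →* Multiplicative (Fin 3 → ZMod 2)) (hf : Function.Surjective f) : D3 X := by
  intro Q
  have hfac : (Nat.card X).factorization 2 = k := by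
    have h0 : Nat.card X ≠ 0 := Nat.card_pos.ne'
    have h1 : 2 ^ k ∣ Nat.card X := hP ▸ Subgroup.card_subgroup_dvd_card P
    refine le_antisymm ?_ ((Nat.prime_two.pow_dvd_iff_le_factorization h0).1 h1)
    by_contra hlt
    push Not at hlt
    exact hX ((Nat.prime_two.pow_dvd_iff_le_factorization h0).2 hlt)
  let P' : Sylow 2 X := Sylow.ofCard P (by rw [hfac, hP])
  let e : Q ≃* P := Sylow.equiv Q P'
  exact ⟨f.comp e.toMonoidHom, hf.comp e.surjective⟩

theorem d3_of_equiv {X : Type u} {Y : Type v} [Group X] [Finite X] [Group Y] (e : X ≃* Y) (h : D3 Y) : D3 X := by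
  intro Q
  let Q' : Sylow 2 Y := Q.mapSurjective (f := e.toMonoidHom) e.surjective
  obtain ⟨f, hf⟩ := h Q'
  let i : Q ≃* Q' := (Q : Subgroup X).equivMapOfInjective e.toMonoidHom e.injective
  exact ⟨f.comp i.toMonoidHom, hf.comp i.surjective⟩

/-! ### the split extension -/

/-- two different nontrivial elements of a subgroup with at least three elements -/
theorem exists_two {H : Type u} [Group H] (K : Subgroup H) (hK : 3 ≤ Nat.card K) :
    ∃ x ∈ K, ∃ y ∈ K, x ≠ 1 ∧ y ≠ 1 ∧ x ≠ y := by
  classical
  have hfin : Finite K := Nat.finite_of_card_ne_zero (by omega)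
  have := Fintype.ofFinite K
  rw [Nat.card_eq_fintype_card, ← Finset.card_univ] at hK
  obtain ⟨a, b, c, -, -, -, hab, hac, hbc⟩ := Finset.two_lt_card_iff.1 (by omega : 2 < (Finset.univ : Finset K).card)
  have hv : ∀ {x y : K}, x ≠ y → (x : H) ≠ y := fun h h' => h (Subtype.ext h')
  by_cases ha : (a : H) = 1
  · exact ⟨b, b.2, c, c.2, fun h => hv hab (ha.trans h.symm), fun h => hv hac (ha.trans h.symm), hv hbc⟩
  · by_cases hb : (b : H) = 1
    · exact ⟨a, a.2, c, c.2, ha, fun h => hv hbc (hb.trans h.symm), hv hac⟩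
    · exact ⟨a, a.2, b, b.2, ha, hb, hv hab⟩

theorem z2_cases (x : Multiplicative (ZMod 2)) : x = 1 ∨ x = Multiplicative.ofAdd 1 := by
  revert x
  decide

theorem surj_two {R : Type u} [Group R] {l m : R →* Multiplicative (ZMod 2)} (hl : l ≠ 1) (hm : m ≠ 1) (hlm : l ≠ m)
    (a b : Multiplicative (ZMod 2)) : ∃ r : R, l r = a ∧ m r = b := by
  have h0 : ∀ {l : R →* Multiplicative (ZMod 2)}, l ≠ 1 → ∃ r, l r = Multiplicative.ofAdd 1 := by
    intro l hl
    by_contra h
    push Not at h
    exact hl (MonoidHom.ext fun r => (z2_cases (l r)).resolve_right (h r))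
  obtain ⟨x, hx⟩ := h0 hl
  obtain ⟨y, hy⟩ := h0 hm
  obtain ⟨w, hw⟩ : ∃ w, l w ≠ m w := by
    by_contra h
    push Not at h
    exact hlm (MonoidHom.ext h)
  have key : ∃ p q : R, l p = Multiplicative.ofAdd 1 ∧ m p = 1 ∧ l q = 1 ∧ m q = Multiplicative.ofAdd 1 := by
    rcases z2_cases (l w) with h1 | h1
    · have h2 : m w = Multiplicative.ofAdd 1 := (z2_cases (m w)).resolve_left fun h => hw (h1.trans h.symm)
      rcases z2_cases (m x) with h3 | h3
      · exact ⟨x, w, hx, h3, h1, h2⟩
      · refine ⟨x * w, w, ?_, ?_, h1, h2⟩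
        · rw [map_mul, hx, h1, mul_one]
        · rw [map_mul, h3, h2]; decide
    · have h2 : m w = 1 := (z2_cases (m w)).resolve_right fun h => hw (h1.trans h.symm)
      rcases z2_cases (l y) with h3 | h3
      · exact ⟨w, y, h1, h2, h3, hy⟩
      · refine ⟨w, w * y, h1, h2, ?_, ?_⟩
        · rw [map_mul, h1, h3]; decide
        · rw [map_mul, h2, hy, one_mul]
  obtain ⟨p, q, h1, h2, h3, h4⟩ := key
  rcases z2_cases a with rfl | rfl <;> rcases z2_cases b with rfl | rfl
  · exact ⟨1, map_one _, map_one _⟩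
  · exact ⟨q, h3, h4⟩
  · exact ⟨p, h1, h2⟩
  · exact ⟨p * q, by rw [map_mul, h1, h3, mul_one], by rw [map_mul, h2, h4, one_mul]⟩

section ext

variable {P : Type u} [Group P] {R : Subgroup P} {c : P}

open Classical in
/-- the extension of an invariant homomorphism -/
noncomputable def extHom (hR : R.index = 2) (hc : c * c = 1) (hcR : c ∉ R) (l : R →* Multiplicative (ZMod 2))
    (hl : ∀ (x : R) (hx : c * x * c ∈ R), l ⟨c * x * c, hx⟩ = l x) : P →* Multiplicative (ZMod 2) where
  toFun p := if h : p ∈ R then l ⟨p, h⟩ else l ⟨p * c, (Subgroup.mul_mem_iff_of_index_two hR).2 (by tauto)⟩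
  map_one' := by
    rw [dif_pos R.one_mem]
    exact map_one l
  map_mul' p q := by
    have hcc : ∀ x : P, c * (c * x) = x := fun x => by rw [← mul_assoc, hc, one_mul]
    by_cases hp : p ∈ R <;> by_cases hq : q ∈ R
    · rw [dif_pos hp, dif_pos hq, dif_pos (R.mul_mem hp hq), ← map_mul]
      rfl
    · have hpq : p * q ∉ R := by rw [Subgroup.mul_mem_iff_of_index_two hR]; tauto
      rw [dif_pos hp, dif_neg hq, dif_neg hpq, ← map_mul]
      congr 1
      exact Subtype.ext (mul_assoc p q c)
    · have hpq : p * q ∉ R := by rw [Subgroup.mul_mem_iff_of_index_two hR]; tauto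
      rw [dif_neg hp, dif_pos hq, dif_neg hpq]
      have h1 : c * q * c ∈ R := by
        rw [Subgroup.mul_mem_iff_of_index_two hR, Subgroup.mul_mem_iff_of_index_two hR]; tauto
      rw [← hl ⟨q, hq⟩ h1, ← map_mul]
      congr 1
      apply Subtype.ext
      show p * q * c = p * c * (c * q * c)
      calc p * q * c = p * (c * (c * q)) * c := by rw [hcc]
        _ = p * c * (c * q * c) := by simp only [mul_assoc]
    · have hpq : p * q ∈ R := by rw [Subgroup.mul_mem_iff_of_index_two hR]; tauto
      have hqc : q * c ∈ R := by rw [Subgroup.mul_mem_iff_of_index_two hR]; tauto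
      rw [dif_neg hp, dif_neg hq, dif_pos hpq]
      have h1 : c * (q * c) * c ∈ R := by
        rw [Subgroup.mul_mem_iff_of_index_two hR, Subgroup.mul_mem_iff_of_index_two hR]; tauto
      rw [← hl ⟨q * c, hqc⟩ h1, ← map_mul]
      congr 1
      apply Subtype.ext
      show p * q = p * c * (c * (q * c) * c)
      calc p * q = p * (c * (c * q)) * (c * c) := by rw [hcc, hc, mul_one]
        _ = p * c * (c * (q * c) * c) := by simp only [mul_assoc]

open Classical in
theorem extHom_mem (hR : R.index = 2) (hc : c * c = 1) (hcR : c ∉ R) (l : R →* Multiplicative (ZMod 2))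
    (hl : ∀ (x : R) (hx : c * x * c ∈ R), l ⟨c * x * c, hx⟩ = l x) (x : R) : extHom hR hc hcR l hl x = l x := by
  show (if h : (x : P) ∈ R then l ⟨x, h⟩ else l ⟨x * c, (Subgroup.mul_mem_iff_of_index_two hR).2 (by tauto)⟩) = l x
  rw [dif_pos x.2]

open Classical in
theorem extHom_c (hR : R.index = 2) (hc : c * c = 1) (hcR : c ∉ R) (l : R →* Multiplicative (ZMod 2))
    (hl : ∀ (x : R) (hx : c * x * c ∈ R), l ⟨c * x * c, hx⟩ = l x) : extHom hR hc hcR l hl c = 1 := by
  show (if h : c ∈ R then l ⟨c, h⟩ else l ⟨c * c, (Subgroup.mul_mem_iff_of_index_two hR).2 (by tauto)⟩) = 1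
  rw [dif_neg hcR]
  have h : (⟨c * c, (Subgroup.mul_mem_iff_of_index_two hR).2 (by tauto)⟩ : R) = 1 := Subtype.ext hc
  rw [h, map_one]

open Classical in
/-- the homomorphism with kernel `R` -/
noncomputable def sgHom (hR : R.index = 2) : P →* Multiplicative (ZMod 2) where
  toFun p := if p ∈ R then 1 else Multiplicative.ofAdd 1
  map_one' := if_pos R.one_mem
  map_mul' p q := by
    by_cases hp : p ∈ R <;> by_cases hq : q ∈ R
    · rw [if_pos hp, if_pos hq, if_pos (R.mul_mem hp hq), mul_one]
    · have hpq : p * q ∉ R := by rw [Subgroup.mul_mem_iff_of_index_two hR]; tauto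
      rw [if_pos hp, if_neg hq, if_neg hpq, one_mul]
    · have hpq : p * q ∉ R := by rw [Subgroup.mul_mem_iff_of_index_two hR]; tauto
      rw [if_neg hp, if_pos hq, if_neg hpq, mul_one]
    · have hpq : p * q ∈ R := by rw [Subgroup.mul_mem_iff_of_index_two hR]; tauto
      rw [if_neg hp, if_neg hq, if_pos hpq]
      decide

/-- **Split extensions**: a subgroup of index 2 of rank 3 and an outer involution. -/
theorem rk_split (hR : R.index = 2) (h3 : Rk 3 R) (hc : c * c = 1) (hcR : c ∉ R) : Rk 3 P := by
  classical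
  obtain ⟨f, hf⟩ := h3
  have hn : R.Normal := Subgroup.normal_of_index_eq_two hR
  have hcinv : c⁻¹ = c := inv_eq_of_mul_eq_one_right hc
  have hcm : ∀ x : R, c * (x : P) * c ∈ R := fun x => by
    have h := hn.conj_mem x x.2 c
    rwa [hcinv] at h
  have hcc : ∀ x : P, c * (c * x * c) * c = x := fun x => by
    calc c * (c * x * c) * c = (c * c) * x * (c * c) := by simp only [mul_assoc]
      _ = x := by rw [hc, one_mul, mul_one]
  -- conjugation by `c`
  let κ : R →* R :=
    { toFun := fun x => ⟨c * x * c, hcm x⟩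
      map_one' := Subtype.ext (by show c * 1 * c = 1; rw [mul_one, hc])
      map_mul' := fun x y => Subtype.ext (by
        show c * ((x : P) * y) * c = c * x * c * (c * y * c)
        calc c * ((x : P) * y) * c = c * x * 1 * (y * c) := by simp only [mul_assoc, mul_one]
          _ = c * x * (c * c) * (y * c) := by rw [hc]
          _ = _ := by simp only [mul_assoc]) }
  have hκ : ∀ x, κ (κ x) = x := fun x => Subtype.ext (hcc x)
  -- the homomorphisms to `C_2`
  let A := Multiplicative (Fin 3 → ZMod 2)
  let F : A →* (R →* Multiplicative (ZMod 2)) :=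
    { toFun := fun a => { toFun := fun x => Multiplicative.ofAdd (∑ i, Multiplicative.toAdd a i * Multiplicative.toAdd (f x) i)
                          map_one' := by rw [map_one]; simp
                          map_mul' := fun x y => by
                            rw [map_mul, ← ofAdd_add, ← Finset.sum_add_distrib]
                            congr 1
                            refine Finset.sum_congr rfl fun i _ => ?_
                            rw [← mul_add]
                            rfl }
      map_one' := by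
        ext x
        simp
      map_mul' := fun a b => by
        ext x
        show ∑ i, (Multiplicative.toAdd a i + Multiplicative.toAdd b i) * Multiplicative.toAdd (f x) i =
          ∑ i, Multiplicative.toAdd a i * Multiplicative.toAdd (f x) i +
          ∑ i, Multiplicative.toAdd b i * Multiplicative.toAdd (f x) i
        rw [← Finset.sum_add_distrib]
        refine Finset.sum_congr rfl fun i _ => ?_
        ring }
  have hF : Function.Injective F := by
    rw [injective_iff_map_eq_one]
    intro a ha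
    apply Multiplicative.toAdd.injective
    funext i
    obtain ⟨x, hx⟩ := hf (Multiplicative.ofAdd (Pi.single i 1))
    have h1 : (F a) x = 1 := by rw [ha]; rfl
    have h2 : ∑ j, Multiplicative.toAdd a j * Multiplicative.toAdd (f x) j = 0 := h1
    rw [hx] at h2
    rw [Finset.sum_eq_single i] at h2
    · simpa using h2
    · intro j _ hj
      simp [hj]
    · intro h
      exact absurd (Finset.mem_univ _) h
  -- the invariant homomorphisms
  let I : Subgroup (R →* Multiplicative (ZMod 2)) :=
    { carrier := {l | l.comp κ = l}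
      one_mem' := by
        show MonoidHom.comp 1 κ = 1
        rfl
      mul_mem' := fun {l m} hl hm => by
        show (l * m).comp κ = l * m
        rw [MonoidHom.mul_comp, hl, hm]
      inv_mem' := fun {l} hl => by
        show (l⁻¹).comp κ = l⁻¹
        rw [MonoidHom.inv_comp, hl] }
  have hsq : ∀ l : R →* Multiplicative (ZMod 2), l * l = 1 := by
    intro l
    ext x
    show l x * l x = 1
    rcases z2_cases (l x) with h | h <;> rw [h] <;> decide
  let E : A →* (R →* Multiplicative (ZMod 2)) :=
    { toFun := fun a => F a * (F a).comp κ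
      map_one' := by rw [map_one]; rfl
      map_mul' := fun a b => by
        rw [map_mul, MonoidHom.mul_comp]
        exact mul_mul_mul_comm _ _ _ _ }
  have hrange : E.range ≤ I := by
    rintro _ ⟨a, rfl⟩
    show (F a * (F a).comp κ).comp κ = F a * (F a).comp κ
    rw [MonoidHom.mul_comp, MonoidHom.comp_assoc]
    have h1 : κ.comp κ = MonoidHom.id R := MonoidHom.ext hκ
    rw [h1, MonoidHom.comp_id, mul_comm]
  have hker : E.ker.map F ≤ I := by
    rintro _ ⟨a, ha, rfl⟩
    have h1 : F a * (F a).comp κ = 1 := ha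
    show (F a).comp κ = F a
    calc (F a).comp κ = (F a * F a) * (F a).comp κ := by rw [hsq, one_mul]
      _ = F a * (F a * (F a).comp κ) := mul_assoc _ _ _
      _ = F a := by rw [h1, mul_one]
  obtain ⟨l, hl, m, hm, hl1, hm1, hlm⟩ : ∃ x ∈ I, ∃ y ∈ I, x ≠ 1 ∧ y ≠ 1 ∧ x ≠ y := by
    have h1 := E.ker.card_mul_index
    rw [Subgroup.index_ker] at h1
    have h2 : Nat.card A = 8 := by
      rw [Nat.card_eq_fintype_card]
      rfl
    rw [h2] at h1
    have h3 : Nat.card (E.ker.map F) = Nat.card E.ker := Subgroup.card_map_of_injective hF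
    rcases Nat.lt_or_ge 2 (Nat.card E.ker) with h4 | h4
    · obtain ⟨x, hx, y, hy, h⟩ := exists_two (E.ker.map F) (by omega)
      exact ⟨x, hker hx, y, hker hy, h⟩
    · have h5 : 3 ≤ Nat.card E.range := by
        by_contra h6
        have h7 : Nat.card E.ker * Nat.card E.range ≤ 2 * 2 := Nat.mul_le_mul h4 (by omega)
        omega
      obtain ⟨x, hx, y, hy, h⟩ := exists_two E.range h5
      exact ⟨x, hrange hx, y, hrange hy, h⟩
  have hl' : ∀ (x : R) (hx : c * x * c ∈ R), l ⟨c * x * c, hx⟩ = l x := fun x _ => DFunLike.congr_fun hl x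
  have hm' : ∀ (x : R) (hx : c * x * c ∈ R), m ⟨c * x * c, hx⟩ = m x := fun x _ => DFunLike.congr_fun hm x
  let g : P →* Multiplicative (Fin 3 → ZMod 2) :=
    { toFun := fun p => Multiplicative.ofAdd ![Multiplicative.toAdd (extHom hR hc hcR l hl' p),
        Multiplicative.toAdd (extHom hR hc hcR m hm' p), Multiplicative.toAdd (sgHom hR p)]
      map_one' := by
        rw [map_one (extHom hR hc hcR l hl'), map_one (extHom hR hc hcR m hm'), map_one (sgHom hR)]
        apply Multiplicative.toAdd.injective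
        funext i
        fin_cases i <;> rfl
      map_mul' := fun p q => by
        rw [map_mul (extHom hR hc hcR l hl'), map_mul (extHom hR hc hcR m hm'), map_mul (sgHom hR)]
        apply Multiplicative.toAdd.injective
        funext i
        fin_cases i <;> rfl }
  refine ⟨g, fun w => ?_⟩
  set w' : Fin 3 → ZMod 2 := Multiplicative.toAdd w with hw'
  obtain ⟨r, h1, h2⟩ := surj_two hl1 hm1 hlm (Multiplicative.ofAdd (w' 0)) (Multiplicative.ofAdd (w' 1))
  have hs1 : sgHom hR (r : P) = 1 := if_pos r.2
  have hs2 : sgHom hR c = Multiplicative.ofAdd 1 := if_neg hcR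
  have hz : ∀ a : ZMod 2, a = 0 ∨ a = 1 := by decide
  rcases hz (w' 2) with h3 | h3
  · refine ⟨r, ?_⟩
    apply Multiplicative.toAdd.injective
    funext i
    fin_cases i
    · show Multiplicative.toAdd (extHom hR hc hcR l hl' r) = w' 0
      rw [extHom_mem, h1]; rfl
    · show Multiplicative.toAdd (extHom hR hc hcR m hm' r) = w' 1
      rw [extHom_mem, h2]; rfl
    · show Multiplicative.toAdd (sgHom hR (r : P)) = w' 2
      rw [hs1, h3]; rfl
  · refine ⟨r * c, ?_⟩
    apply Multiplicative.toAdd.injective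
    funext i
    fin_cases i
    · show Multiplicative.toAdd (extHom hR hc hcR l hl' (r * c)) = w' 0
      rw [map_mul, extHom_mem, extHom_c, h1, mul_one]; rfl
    · show Multiplicative.toAdd (extHom hR hc hcR m hm' (r * c)) = w' 1
      rw [map_mul, extHom_mem, extHom_c, h2, mul_one]; rfl
    · show Multiplicative.toAdd (sgHom hR ((r : P) * c)) = w' 2
      rw [map_mul, hs1, hs2, h3, one_mul]; rfl

end ext

theorem d3_split {G : Type u} [Group G] [Finite G] (N : Subgroup G) (hN : N.index = 2) (hD : D3 N) {c : G}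
    (hc : c * c = 1) (hcN : c ∉ N) : D3 G := by
  have hp : IsPGroup 2 (Subgroup.zpowers c) := by
    rintro ⟨x, k, rfl⟩
    refine ⟨1, Subtype.ext ?_⟩
    show (c ^ k) ^ 2 ^ 1 = 1
    rw [pow_one, pow_two, ← zpow_add, ← two_mul, zpow_mul, zpow_two, hc, one_zpow]
  obtain ⟨P, hP⟩ := hp.exists_le_sylow
  have hcP : c ∈ P := hP (Subgroup.mem_zpowers c)
  let R : Subgroup P := N.subgroupOf P
  have hR : R.index = 2 := by
    have h1 : R.index ∣ 2 := by
      have hn : N.Normal := Subgroup.normal_of_index_eq_two hN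
      have h0 : R.index ∣ N.index := Subgroup.relIndex_dvd_index_of_normal N (P : Subgroup G)
      exact h0.trans (dvd_of_eq hN)
    rcases (Nat.dvd_prime Nat.prime_two).1 h1 with h2 | h2
    · exfalso
      rw [Subgroup.index_eq_one] at h2
      have h3 : (⟨c, hcP⟩ : P) ∈ R := by rw [h2]; trivial
      exact hcN h3
    · exact h2
  let e : R ≃* ((P : Subgroup G).subgroupOf N) :=
    { toFun := fun x => ⟨⟨x.1.1, x.2⟩, x.1.2⟩
      invFun := fun x => ⟨⟨x.1.1, x.2⟩, x.1.2⟩
      left_inv := fun _ => rfl
      right_inv := fun _ => rfl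
      map_mul' := fun _ _ => rfl }
  have hpg : IsPGroup 2 ((P : Subgroup G).subgroupOf N) := (P.2.to_subgroup R).of_equiv e
  have hind : ¬ 2 ∣ ((P : Subgroup G).subgroupOf N).index := by
    have h1 := ((P : Subgroup G).subgroupOf N).card_mul_index
    have h2 := R.card_mul_index
    have h3 := N.card_mul_index
    have h4 := (P : Subgroup G).card_mul_index
    rw [← Nat.card_congr e.toEquiv] at h1
    rw [hR] at h2
    rw [hN, ← h1] at h3
    rw [← h2, ← h3] at h4
    have h5 : 0 < Nat.card R := Nat.card_pos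
    have h6 : (P : Subgroup G).index = ((P : Subgroup G).subgroupOf N).index := by
      have h7 : Nat.card R * 2 * (P : Subgroup G).index = Nat.card R * 2 * ((P : Subgroup G).subgroupOf N).index := by
        rw [h4]; ring
      exact Nat.eq_of_mul_eq_mul_left (by omega) h7
    rw [← h6]
    exact P.not_dvd_index
  let Q : Sylow 2 N := hpg.toSylow hind
  obtain ⟨f, hf⟩ := hD Q
  let e' : R ≃* Q := e
  have h3 : Rk 3 P := rk_split hR ⟨f.comp e'.toMonoidHom, hf.comp e'.surjective⟩ (c := ⟨c, hcP⟩) (Subtype.ext hc) hcN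
  obtain ⟨g, hg⟩ := h3
  intro P'
  let i : P' ≃* P := Sylow.equiv P' P
  exact ⟨g.comp i.toMonoidHom, hg.comp i.surjective⟩

/-! ### automorphisms -/

section row

variable {S : Type u} [Group S]

theorem isInn_iff (τ : MulAut S) : IsInn τ ↔ τ ∈ (MulAut.conj : S →* MulAut S).range := by
  constructor
  · rintro ⟨s, hs⟩
    exact ⟨s, MulEquiv.ext fun x => (hs x).symm⟩
  · rintro ⟨s, rfl⟩
    exact ⟨s, fun _ => rfl⟩

/-- A non-inner automorphism is the product of an inner one with a given one, if `|Out S| = 2`. -/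
theorem exists_inn_mul (hO : Nat.card (Cfsg.Out S) = 2) {c τ : MulAut S} (hc : ¬ IsInn c) (hτ : ¬ IsInn τ) :
    ∃ s : S, ∀ x, τ x = s * c x * s⁻¹ := by
  rw [isInn_iff] at hc hτ
  rw [H55.OutGen.card_out_eq_index] at hO
  have h1 : τ * c⁻¹ ∈ (MulAut.conj : S →* MulAut S).range := by
    rw [Subgroup.mul_mem_iff_of_index_two hO, inv_mem_iff]
    tauto
  obtain ⟨s, hs⟩ := h1
  refine ⟨s, fun x => ?_⟩
  have h2 : τ = MulAut.conj s * c := by rw [hs]; group
  rw [h2]
  rfl

theorem GInv3.inn_mul {c τ : MulAut S} (h : GInv3 c) {s : S} (hs : ∀ x, τ x = s * c x * s⁻¹) : GInv3 τ := by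
  obtain ⟨χ, h1, h2⟩ := h
  refine ⟨χ, h1, fun i => ⟨(h2 i).1, fun x => ?_⟩⟩
  rw [hs, ← (h2 i).2 x]
  exact Cfsg.Agent.Characters.Core.isIrr_isClassFunction (h2 i).1.odd.1 _ _

/-- `D3 (AutExt τ)` in the split case -/
theorem d3_autExt [Finite S] (hZ : Subgroup.center S = ⊥) (hD : D3 S) (hO : Nat.card (Cfsg.Out S) = 2) {c τ : MulAut S}
    (hc : c * c = 1) (hcn : ¬ IsInn c) (hτ : ¬ IsInn τ) : D3 (AutExt τ) := by
  have hfin : Finite (MulAut S) := Finite.of_injective (fun f : MulAut S => (f : S → S)) DFunLike.coe_injective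
  obtain ⟨s, hs⟩ := exists_inn_mul hO hcn hτ
  have hcm : c ∈ AutExt τ := by
    have h1 : c = (MulAut.conj s)⁻¹ * τ := by
      have h2 : τ = MulAut.conj s * c := MulEquiv.ext hs
      rw [h2]
      group
    rw [h1]
    exact (AutExt τ).mul_mem ((AutExt τ).inv_mem ((le_sup_left : _ ≤ AutExt τ) ⟨s, rfl⟩))
      ((le_sup_right : _ ≤ AutExt τ) (Subgroup.mem_zpowers τ))
  let N : Subgroup (AutExt τ) := (MulAut.conj : S →* MulAut S).range.subgroupOf (AutExt τ)
  have hcN : (⟨c, hcm⟩ : AutExt τ) ∉ N := fun h => hcn ((isInn_iff c).2 h)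
  have hnor : (MulAut.conj : S →* MulAut S).range.Normal := by
    refine Subgroup.normal_of_index_eq_two ?_
    rw [← H55.OutGen.card_out_eq_index]
    exact hO
  have hN : N.index = 2 := by
    have h1 : N.index ∣ 2 := by
      rw [← hO, H55.OutGen.card_out_eq_index]
      exact Subgroup.relIndex_dvd_index_of_normal _ _
    rcases (Nat.dvd_prime Nat.prime_two).1 h1 with h2 | h2
    · exfalso
      rw [Subgroup.index_eq_one] at h2
      apply hcN
      rw [h2]
      trivial
    · exact h2
  have hinj : Function.Injective (MulAut.conj : S →* MulAut S) := by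
    rw [injective_iff_map_eq_one]
    intro x hx
    have h1 : x ∈ Subgroup.center S := by
      rw [Subgroup.mem_center_iff]
      intro g
      have h2 : x * g * x⁻¹ = g := DFunLike.congr_fun hx g
      exact (mul_inv_eq_iff_eq_mul.1 h2).symm
    rw [hZ] at h1
    exact h1
  let e₁ : S ≃* (MulAut.conj : S →* MulAut S).range := MonoidHom.ofInjective hinj
  let e₂ : N ≃* (MulAut.conj : S →* MulAut S).range :=
    Subgroup.subgroupOfEquivOfLe (le_sup_left : _ ≤ AutExt τ)
  exact d3_split N hN (d3_of_equiv (e₂.trans e₁.symm) hD) (c := ⟨c, hcm⟩) (Subtype.ext hc) hcN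

/-- **The row of a simple group with `|Out S| = 2` and a non-inner involutory automorphism.** -/
theorem row_of_involution [Finite S] (hZ : Subgroup.center S = ⊥) (h5 : H601.K4.Good5 S) (hD : D3 S)
    (hO : Nat.card (Cfsg.Out S) = 2) (c : MulAut S) (hc : c * c = 1) (hcn : ¬ IsInn c) (hG : GInv3 c) : Row S where
  base := Or.inl ⟨h5, hD⟩
  ext τ _ hτ := by
    obtain ⟨s, hs⟩ := exists_inn_mul hO hcn hτ
    exact ⟨fun _ => d3_autExt hZ hD hO hc hcn hτ, fun _ => GInv3.inn_mul hG hs⟩

end row

section transport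

variable {S : Type u} {T : Type v} [Group S] [Group T]

/-- the automorphism transported along an isomorphism -/
def tr (e : S ≃* T) (c : MulAut T) : MulAut S := (e.trans c).trans e.symm

theorem tr_apply (e : S ≃* T) (c : MulAut T) (x : S) : tr e c x = e.symm (c (e x)) := rfl

theorem tr_mul (e : S ≃* T) (c d : MulAut T) : tr e c * tr e d = tr e (c * d) := by
  ext x
  show e.symm (c (e (e.symm (d (e x))))) = e.symm (c (d (e x)))
  rw [e.apply_symm_apply]

theorem tr_one (e : S ≃* T) : tr e 1 = 1 := by
  ext x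
  exact e.symm_apply_apply x

theorem isInn_tr (e : S ≃* T) {c : MulAut T} (h : IsInn (tr e c)) : IsInn c := by
  obtain ⟨s, hs⟩ := h
  refine ⟨e s, fun x => ?_⟩
  have h1 := hs (e.symm x)
  rw [tr_apply, e.apply_symm_apply] at h1
  apply e.symm.injective
  rw [h1, map_mul, map_mul, map_inv, e.symm_apply_apply]

theorem ginv3_tr [Finite S] [Finite T] (e : S ≃* T) {c : MulAut T} (h : GInv3 c) : GInv3 (tr e c) := by
  obtain ⟨χ, h1, h2⟩ := h
  refine ⟨fun i x => χ i (e x), fun i j hij => h1 ?_, fun i => ⟨H740.K4.good_comp e (h2 i).1, fun x => ?_⟩⟩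
  · funext y
    have h3 := congrFun hij (e.symm y)
    simpa using h3
  · show χ i (e (tr e c x)) = χ i (e x)
    rw [tr_apply, e.apply_symm_apply, (h2 i).2]

end transport

end Cfsg.Agent.H832.K547
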